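import Cfsg.Agent.Lib.CosetEnum.Defs

/-! Generated table data. -/

set_option autoImplicit false
set_option maxRecDepth 20000

namespace Cfsg.Lib.HeldType.Amalgam.Twist

open Cfsg.Lib.CosetEnum

/-- Table data. -/
def tabComm0C_0 : Tab :=
  (.node 1 (.leaf 0x10000280000200000c000040000140000600002c0000700003000000) (.leaf 0x4000000000040000a000030000090000200000700002c0000400003000001))

end Cfsg.Lib.HeldType.Amalgam.Twist
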