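import Cfsg.Agent.Lib.CosetEnum.Defs

/-! Generated table data. -/

set_option autoImplicit false
set_option maxRecDepth 20000

namespace Cfsg.Lib.HeldType.Amalgam.Twist

open Cfsg.Lib.CosetEnum

/-- Table data. -/
def tabComm1C_0 : Tab :=
  (.node 1 (.leaf 0x100000800003000010000050000180000500001c00000) (.leaf 0x100000000001000024000070000200000500002400000))

end Cfsg.Lib.HeldType.Amalgam.Twist
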