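import Cfsg.Agent.Lib.CosetEnum.Defs

/-! Generated table data. -/

set_option autoImplicit false
set_option maxRecDepth 20000

namespace Cfsg.Lib.HeldType.Amalgam.Twist

open Cfsg.Lib.CosetEnum

/-- Table data. -/
def tabComm5C_0 : Tab :=
  (.node 6 (.node 3 (.node 1 (.leaf 0x1000040000050000100000e0000600000500006400001) (.node 1 (.leaf 0x1000044000070000180000f0000640000500006800000) (.leaf 0x100005c0000d00000c0000e000060000210000680000700006c00004))) (.node 1 (.leaf 0x100007000012000024000130000740000500007800001) (.node 1 (.leaf 0x1000078000140000280000000002c0001500007c0000700008000002) (.leaf 0x100008c0001700003400002000030000160000800000700008400002)))) (.node 3 (.node 1 (.leaf 0x100007c0001500002c00001000030000160000800000700008400005) (.node 1 (.leaf 0x100006c000220000640000f0000400001a0000980000700008400003) (.leaf 0x40002500009c0001c000048000080000440001b0000a00000600008400006))) (.node 1 (.leaf 0x1000078000290000900000300007800007) (.node 1 (.leaf 0x10000740002a0000500000300002c00008) (.leaf 0x100004c0002b0000280000300000000007)))))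

end Cfsg.Lib.HeldType.Amalgam.Twist
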