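import Cfsg.Agent.Lib.CosetEnum.Defs

/-! Generated table data. -/

set_option autoImplicit false
set_option maxRecDepth 20000

namespace Cfsg.Lib.HeldType.Amalgam.Twist

open Cfsg.Lib.CosetEnum

/-- Table data. -/
def tabComm5F_0 : Tab :=
  (.leaf 0x5000001f0000000000a000017f0000000000a80003df0000000000e80003ff0000000000e00004210000000001000004230000000000d80004220000000000f80004020000000000e80003c00000000000c00003600000000000900003430000000000880003200000000000b80004200000000000b00004000000000000a80003e00000000000a00003c30000000000980003a50000000000900003850000000000880003630000000000800003420000000000780003230000000000700003030000000000680002e30000000000600002c30000000000580002a30000000000500002800000000000480002620000000000400002410000000000300002250000000000300002010000000000200001e00000000000180001c00000000000100001a00000000000080001800000000000000001600000000000480001450000000000400001230000000000380001020000000000300000e30000000000280000c20000000000200000a5000000000018000083000000000010000062000000000008000043000000000000000022)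

end Cfsg.Lib.HeldType.Amalgam.Twist
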