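import Cfsg.Agent.Lib.CosetEnum.Defs

/-! Generated table data. -/

set_option autoImplicit false
set_option maxRecDepth 20000

namespace Cfsg.Lib.HeldType.Amalgam.Twist

open Cfsg.Lib.CosetEnum

/-- Table data. -/
def tabZInUC_0 : Tab :=
  (.node 10 (.node 5 (.node 2 (.node 1 (.leaf 0x40002b0000600000a00002c0000c0000340001c0000bc000080000c000008) (.leaf 0x10000a8000170000600002b0000f00001d0000380001c0000bc000040000c000009)) (.node 1 (.leaf 0x10000b40001a0000380001d0000c0000050000c400001) (.node 1 (.leaf 0x400029000058000170000a80003d0000c0000060000c400002) (.leaf 0x1000080000100000040000000003c0001e0000c4000070000c800004)))) (.node 2 (.node 1 (.leaf 0x10000840001100000c00002000040000200000cc000070000d000007) (.leaf 0x40002400004c0000700001800005000048000230000d4000080000d80000a)) (.node 1 (.leaf 0x400034000088000230000d400042000090000250000d8000080000dc0000b) (.node 1 (.leaf 0x10000a000015000050000260000dc000050000e000000) (.leaf 0x10000fc0002900005800009000050000260000dc000070000e000006))))) (.node 5 (.node 2 (.node 1 (.leaf 0x10001100002e00006c0001a0000b40003e000114000060000e000003) (.leaf 0x100010c0003600009400013000020000090000640002c0000e4000090000e80000c))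 (.node 1 (.leaf 0x10000e0000270000a0000460000e8000050000ec00001) (.node 1 (.leaf 0x10000cc000400000c40001e00007c000320000ec000070000f000005) (.leaf 0x400034000088000120000100001100008400041000124000080000f00000a)))) (.node 2 (.node 1 (.leaf 0x40003800009c00015000024000190000b00003900011c0004a000124000010000f00000d) (.leaf 0x10001200004b0000cc000030000840000f)) (.node 1 (.leaf 0x10000e80004c000080000030000440000e) (.node 1 (.leaf 0x10000b80004d000040000030000080000f) (.leaf 0x100006c0004e0000040000300000400010))))))

end Cfsg.Lib.HeldType.Amalgam.Twist
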