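import Cfsg.Agent.Lib.CosetEnum.Defs

/-! Generated table data. -/

set_option autoImplicit false
set_option maxRecDepth 20000

namespace Cfsg.Lib.HeldType.Amalgam.Twist

open Cfsg.Lib.CosetEnum

/-- Table data. -/
def tabZInUF_0 : Tab :=
  (.node 1 (.leaf 0x1500006220000000001700006230000000000f000057f0000000001600006000000000001980007850000000001780007610000000001680007470000000001400007220000000001380007020000000001300006e10000000001200006c10000000001180006a00000000001080006830000000001000006610000000000f80006450000000000f00006210000000000e80006040000000000e00005e30000000000d80005c20000000000d00005a50000000000c80005840000000000c00005630000000000b80005430000000000b00005230000000000b00005010000000000a80004e30000000000a00004c20000000000a00004a00000000000980004870000000000980004610000000000900004430000000000880004210000000000800004030000000000800003e20000000000780003c20000000000700003a60000000000700003850000000000700003610000000000500003470000000000500003260000000000500003020000000000500002e10000000000480002c20000000000480002a10000000000400002810000000000280002630000000000200002410000000000100002230000000000000002010000000000700001e30000000000680001c20000000000600001a30000000000580001820000000000500001630000000000480001450000000000400001270000000000380001030000000000300000e00000000000280000c10000000000200000a0000000000018000083000000000010000067000000000008000045000000000000000023) (.leaf 0x7000003f0000000000e000005f00000000017800023f0000000001d800043f0000000001a000073f0000000001a80007870000000001a00007810000000001c80007630000000001a80007450000000001780005220000000001880007050000000001480007010000000001a80006e20000000001280006c7000000000110000687000000000108000642))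

end Cfsg.Lib.HeldType.Amalgam.Twist
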