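import Cfsg.Agent.Lib.CosetEnum.Defs

/-! Generated table data. -/

set_option autoImplicit false
set_option maxRecDepth 20000

namespace Cfsg.Lib.HeldType.Amalgam.Twist

open Cfsg.Lib.CosetEnum

/-- Table data. -/
def tabZSqC_0 : Tab :=
  (.node 4 (.node 2 (.node 1 (.leaf 0x1000028000020000040000900003c0000500004000000) (.leaf 0x100002c0000400000c0000a0000400000500004400000)) (.node 1 (.leaf 0x1000034000070000180000c0000440000500004800001) (.leaf 0x10000480000e000020000000000240000f00004c0000700005000003))) (.node 2 (.node 1 (.leaf 0x100006000013000054000100000500000500005400002) (.leaf 0x400012000064000110000300000500002c000160000500000600005400004)) (.node 1 (.leaf 0x100005c0001a0000380000300002400006) (.leaf 0x10000340001b0000200000300000000005))))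

end Cfsg.Lib.HeldType.Amalgam.Twist
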