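import Cfsg.Agent.Lib.CosetEnum.Defs

/-! Generated table data. -/

set_option autoImplicit false
set_option maxRecDepth 20000

namespace Cfsg.Lib.HeldType.Amalgam.Twist

open Cfsg.Lib.CosetEnum

/-- Table data. -/
def tabZSqF_0 : Tab :=
  (.leaf 0x4000001f00000000007000013f0000000000900001ff0000000000980002a30000000000980002820000000000700002420000000000600002230000000000580002030000000000880002a10000000000800002810000000000780002610000000000680002430000000000580002220000000000500002020000000000480001e20000000000400001c10000000000300001a10000000000280001810000000000180001610000000000080001410000000000000001210000000000380001030000000000300000e20000000000280000c30000000000200000a2000000000018000083000000000010000062000000000008000043000000000000000022)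

end Cfsg.Lib.HeldType.Amalgam.Twist
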