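import Cfsg.Agent.Lib.HeldType.Amalgam.Twist.TabComm0F0
import Cfsg.Agent.Lib.HeldType.Amalgam.Twist.TabComm0C0
import Cfsg.Agent.Lib.HeldType.Amalgam.Twist.TabComm1F0
import Cfsg.Agent.Lib.HeldType.Amalgam.Twist.TabComm1C0
import Cfsg.Agent.Lib.HeldType.Amalgam.Twist.TabComm2F0
import Cfsg.Agent.Lib.HeldType.Amalgam.Twist.TabComm2C0
import Cfsg.Agent.Lib.HeldType.Amalgam.Twist.TabComm3F0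
import Cfsg.Agent.Lib.HeldType.Amalgam.Twist.TabComm3C0
import Cfsg.Agent.Lib.HeldType.Amalgam.Twist.TabComm5F0
import Cfsg.Agent.Lib.HeldType.Amalgam.Twist.TabComm5C0
import Cfsg.Agent.Lib.HeldType.Amalgam.Twist.TabZSqF0
import Cfsg.Agent.Lib.HeldType.Amalgam.Twist.TabZSqC0
import Cfsg.Agent.Lib.HeldType.Amalgam.Twist.TabTwistF0
import Cfsg.Agent.Lib.HeldType.Amalgam.Twist.TabTwistC0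
import Cfsg.Agent.Lib.HeldType.Amalgam.Twist.TabZInUF0
import Cfsg.Agent.Lib.HeldType.Amalgam.Twist.TabZInUC0
import Cfsg.Agent.Lib.CosetEnum.Loop

/-! Generated certificates. -/

set_option autoImplicit false
set_option maxRecDepth 20000

namespace Cfsg.Lib.HeldType.Amalgam.Twist

open Cfsg.Lib.CosetEnum

/-- A certificate that a word is trivial. -/
def comm0Cert : LoopCert :=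
  ⟨[
    [4, 3, 2, 0, 3, 2, 4, 0],
    [4, 2, 3, 0, 2, 3, 4, 0]], tabComm0F_0, tabComm0C_0, 12, 2, [2, 3, 2, 3, 0, 2, 3, 2, 3, 0], [0, 1, 2, 3, 4, 5, 6, 7, 8, 9, 13]⟩

/-- A certificate that a word is trivial. -/
def comm1Cert : LoopCert :=
  ⟨[
    [3, 2, 1, 3, 2, 1]], tabComm1F_0, tabComm1C_0, 9, 2, [2, 3, 2, 3, 1, 2, 3, 2, 3, 1], [0, 1, 2, 3, 4, 5, 6, 7, 8, 10]⟩

/-- A certificate that a word is trivial. -/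
def comm2Cert : LoopCert :=
  ⟨[], tabComm2F_0, tabComm2C_0, 5, 0, [2, 3, 2, 3, 2, 2, 3, 2, 3, 2], [0, 1, 2, 3, 4, 4, 3, 2, 1, 0]⟩

/-- A certificate that a word is trivial. -/
def comm3Cert : LoopCert :=
  ⟨[], tabComm3F_0, tabComm3C_0, 5, 0, [2, 3, 2, 3, 3, 2, 3, 2, 3, 3], [0, 1, 2, 3, 3, 2, 1, 0, 4, 4]⟩

/-- A certificate that a word is trivial. -/
def comm5Cert : LoopCert :=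
  ⟨[
    [2, 1, 3, 2, 1, 3],
    [3, 0, 5, 2, 5, 0],
    [0, 3, 0, 2, 0, 3, 0, 2],
    [2, 3, 5, 1, 2, 3, 5, 1],
    [3, 0, 3, 0, 3, 0, 3, 0],
    [0, 3, 0, 3, 0, 3, 0, 3],
    [1, 5, 1, 3, 2, 5, 2, 3],
    [0, 0],
    [3, 3]], tabComm5F_0, tabComm5C_0, 33, 12, [2, 3, 2, 3, 5, 2, 3, 2, 3, 5], [0, 1, 2, 3, 4, 5, 6, 7, 8, 9, 44]⟩

/-- A certificate that a word is trivial. -/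
def zSqCert : LoopCert :=
  ⟨[
    [2, 1, 3, 2, 1, 3],
    [3, 1, 2, 3, 1, 2],
    [1, 2, 3, 1, 2, 3],
    [1, 2, 1, 2, 1, 2, 1, 2],
    [1, 3, 1, 3, 1, 3, 1, 3],
    [1, 1],
    [2, 2]], tabZSqF_0, tabZSqC_0, 21, 8, [2, 3, 2, 3, 2, 3, 2, 3], [0, 1, 2, 3, 4, 5, 6, 7, 28]⟩

/-- A certificate that a word is trivial. -/
def twistCert : LoopCert :=
  ⟨[
    [2, 3, 1, 2, 3, 1],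
    [2, 1, 3, 2, 1, 3],
    [3, 1, 2, 3, 1, 2],
    [3, 2, 1, 3, 2, 1],
    [1, 2, 3, 1, 2, 3],
    [1, 3, 2, 1, 3, 2],
    [3, 0, 5, 2, 5, 0],
    [0, 5, 2, 5, 0, 3],
    [0, 3, 0, 5, 2, 5],
    [5, 2, 5, 0, 3, 0],
    [5, 0, 3, 0, 5, 2],
    [2, 5, 0, 3, 0, 5],
    [3, 4, 3, 2, 4, 2],
    [3, 2, 4, 2, 3, 4],
    [4, 3, 2, 4, 2, 3],
    [2, 4, 2, 3, 4, 3],
    [2, 3, 4, 3, 2, 4],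
    [4, 2, 3, 4, 3, 2],
    [5, 0, 5, 0, 5, 0],
    [0, 5, 0, 5, 0, 5],
    [0, 7, 0, 7, 0, 7],
    [0, 1, 0, 1, 0, 1, 0, 1],
    [2, 0, 2, 0, 2, 0, 2, 0],
    [0, 2, 0, 2, 0, 2, 0, 2],
    [2, 0, 3, 0, 2, 0, 3, 0],
    [0, 3, 0, 2, 0, 3, 0, 2],
    [0, 2, 0, 3, 0, 2, 0, 3],
    [3, 0, 2, 0, 3, 0, 2, 0],
    [1, 2, 1, 2, 1, 2, 1, 2],
    [2, 1, 4, 1, 2, 1, 4, 1],
    [1, 2, 1, 4, 1, 2, 1, 4],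
    [4, 1, 2, 1, 4, 1, 2, 1],
    [2, 0, 3, 2, 4, 0, 4, 3],
    [4, 0, 4, 2, 3, 0, 2, 3],
    [4, 3, 2, 0, 3, 2, 4, 0],
    [0, 4, 2, 3, 0, 2, 3, 4],
    [4, 2, 3, 0, 2, 3, 4, 0],
    [4, 0, 4, 3, 2, 0, 3, 2],
    [2, 3, 0, 2, 3, 4, 0, 4],
    [3, 0, 2, 3, 4, 0, 4, 2],
    [0, 2, 3, 4, 0, 4, 2, 3],
    [0, 3, 2, 4, 0, 4, 3, 2],
    [2, 1, 5, 3, 2, 1, 5, 3],
    [3, 2, 1, 5, 3, 2, 1, 5],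
    [5, 1, 2, 3, 5, 1, 2, 3],
    [5, 3, 2, 1, 5, 3, 2, 1],
    [1, 5, 3, 2, 1, 5, 3, 2],
    [4, 3, 0, 3, 4, 2, 0, 2],
    [4, 2, 0, 2, 4, 3, 0, 3],
    [3, 4, 2, 0, 2, 4, 3, 0],
    [0, 3, 4, 2, 0, 2, 4, 3],
    [0, 2, 4, 3, 0, 3, 4, 2],
    [2, 5, 2, 1, 3, 5, 3, 1],
    [2, 1, 3, 5, 3, 1, 2, 5],
    [1, 3, 5, 3, 1, 2, 5, 2],
    [1, 2, 5, 2, 1, 3, 5, 3],
    [5, 3, 1, 2, 5, 2, 1, 3],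
    [3, 0, 3, 0, 3, 0, 3, 0],
    [0, 3, 0, 3, 0, 3, 0, 3],
    [3, 1, 5, 1, 3, 2, 5, 2],
    [1, 5, 1, 3, 2, 5, 2, 3],
    [1, 3, 2, 5, 2, 3, 1, 5],
    [5, 1, 3, 2, 5, 2, 3, 1],
    [5, 2, 3, 1, 5, 1, 3, 2],
    [4, 1, 4, 3, 4, 1, 4, 3],
    [4, 3, 4, 1, 4, 3, 4, 1],
    [1, 4, 3, 4, 1, 4, 3, 4],
    [3, 4, 1, 4, 3, 4, 1, 4],
    [2, 4, 2, 4, 2, 4, 2, 4],
    [5, 4, 2, 4, 5, 4, 2, 4],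
    [6, 0, 6, 0, 6, 0, 6, 0],
    [0, 6, 0, 6, 0, 6, 0, 6],
    [4, 6, 0, 6, 4, 6, 0, 6],
    [3, 1, 3, 1, 3, 1, 3, 1],
    [1, 3, 1, 3, 1, 3, 1, 3],
    [7, 3, 1, 3, 7, 3, 1, 3],
    [1, 3, 7, 3, 1, 3, 7, 3],
    [7, 1, 7, 1, 7, 1, 7, 1],
    [1, 7, 1, 7, 1, 7, 1, 7],
    [1, 2, 1, 4, 3, 0, 4, 2, 0],
    [1, 0, 2, 4, 0, 3, 4, 1, 2],
    [2, 1, 4, 3, 0, 4, 2, 0, 1],
    [2, 1, 0, 2, 4, 0, 3, 4, 1],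
    [4, 3, 0, 4, 2, 0, 1, 2, 1],
    [3, 0, 4, 2, 0, 1, 2, 1, 4],
    [0, 4, 2, 0, 1, 2, 1, 4, 3],
    [2, 4, 0, 3, 4, 1, 2, 1, 0],
    [1, 2, 4, 1, 4, 1, 2, 4, 3],
    [1, 3, 4, 2, 1, 4, 1, 4, 2],
    [2, 1, 3, 4, 2, 1, 4, 1, 4],
    [4, 2, 1, 3, 4, 2, 1, 4, 1],
    [4, 1, 4, 2, 1, 3, 4, 2, 1],
    [1, 0, 6, 3, 0, 3, 6, 1, 0],
    [6, 1, 0, 1, 0, 6, 3, 0, 3],
    [3, 6, 0, 1, 0, 1, 6, 3, 0],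
    [2, 3, 0, 2, 6, 0, 6, 3, 0],
    [2, 6, 0, 6, 3, 0, 2, 3, 0],
    [2, 0, 3, 2, 0, 3, 6, 0, 6],
    [6, 0, 6, 3, 0, 2, 3, 0, 2],
    [0, 6, 3, 0, 2, 3, 0, 2, 6],
    [0, 6, 2, 0, 3, 2, 0, 3, 6],
    [6, 0, 6, 2, 0, 3, 2, 0, 3],
    [3, 0, 2, 3, 0, 2, 6, 0, 6],
    [3, 6, 0, 6, 2, 0, 3, 2, 0],
    [4, 6, 2, 3, 2, 3, 6, 4, 0],
    [4, 0, 4, 6, 3, 2, 3, 2, 6],
    [3, 2, 3, 2, 6, 4, 0, 4, 6],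
    [4, 6, 3, 2, 3, 2, 6, 4, 0],
    [1, 3, 0, 1, 3, 7, 1, 7, 0],
    [3, 1, 0, 7, 1, 7, 3, 1, 0],
    [7, 3, 1, 0, 3, 1, 0, 7, 1],
    [1, 7, 3, 1, 0, 3, 1, 0, 7],
    [7, 1, 0, 2, 1, 2, 0, 7, 1],
    [1, 2, 0, 1, 7, 1, 7, 0, 2],
    [2, 0, 5, 1, 5, 0, 2, 0, 1, 0],
    [0, 2, 0, 5, 4, 5, 3, 5, 4, 5],
    [2, 0, 1, 0, 5, 3, 7, 1, 7, 5],
    [5, 2, 1, 2, 1, 7, 5, 7, 5, 7],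
    [7, 5, 7, 1, 2, 1, 2, 5, 7, 5],
    [5, 7, 1, 2, 1, 2, 5, 7, 5, 7],
    [5, 2, 7, 2, 5, 3, 5, 7, 5, 3],
    [5, 3, 5, 7, 5, 3, 5, 2, 7, 2],
    [7, 5, 3, 5, 2, 7, 2, 5, 3, 5],
    [1, 0, 5, 2, 0, 1, 0, 5, 1, 0, 3],
    [0, 1, 5, 0, 1, 0, 2, 5, 0, 1, 3],
    [4, 1, 0, 2, 1, 0, 4, 1, 0, 2, 1],
    [5, 4, 0, 5, 4, 0, 5, 0, 2, 4, 2],
    [5, 0, 4, 5, 2, 4, 2, 0, 5, 0, 4],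
    [5, 0, 2, 4, 2, 5, 4, 0, 5, 4, 0],
    [5, 7, 5, 1, 5, 7, 5, 0, 1, 0, 1],
    [7, 5, 1, 0, 1, 0, 5, 7, 5, 1, 5],
    [5, 7, 2, 3, 7, 1, 5, 2, 1, 7, 2],
    [7, 1, 2, 5, 1, 7, 3, 2, 7, 5, 2],
    [4, 1, 3, 2, 7, 2, 0, 3, 7, 5, 0, 2, 4, 6, 2, 6],
    [0, 0],
    [1, 1],
    [2, 2],
    [3, 3],
    [5, 5],
    [7, 7]], tabTwistF_0, (.node 128 (.node 64 tabTwistC_0 tabTwistC_1) (.node 64 tabTwistC_2 (.node 64 tabTwistC_3 tabTwistC_4))), 601, 296, [4, 6, 2, 6, 4, 2, 0, 3, 2, 3, 2, 3, 7, 2, 3, 2, 3, 2, 3, 0, 2, 3, 2, 3, 7, 2, 3, 2, 3, 3, 5, 0], [0, 1, 2, 3, 4, 5, 6, 7, 8, 9, 10, 11, 12, 13, 14, 15, 16, 17, 18, 19, 20, 21, 22, 23, 24, 25, 26, 27, 28, 28, 29, 30, 896]⟩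

/-- A certificate that a word is trivial. -/
def zInUCert : LoopCert :=
  ⟨[
    [2, 3, 1, 2, 3, 1],
    [1, 2, 3, 1, 2, 3],
    [1, 3, 2, 1, 3, 2],
    [5, 3, 2, 1, 5, 3, 2, 1],
    [5, 2, 1, 3, 5, 3, 1, 2],
    [5, 1, 3, 2, 5, 2, 3, 1],
    [2, 3, 1, 5, 1, 3, 2, 5],
    [3, 1, 3, 7, 3, 1, 3, 7],
    [4, 6, 2, 3, 2, 3, 6, 4, 0],
    [4, 6, 3, 2, 3, 2, 6, 4, 0],
    [1, 7, 3, 1, 0, 3, 1, 0, 7],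
    [1, 2, 0, 7, 1, 7, 1, 0, 2],
    [7, 5, 7, 5, 7, 1, 2, 1, 2, 5],
    [1, 2, 1, 2, 5, 7, 5, 7, 5, 7],
    [1, 1],
    [3, 3],
    [5, 5]], tabZInUF_0, tabZInUC_0, 60, 20, [3, 5, 7, 3, 0, 1, 0, 3, 7, 5, 3, 2, 3, 2, 3], [0, 1, 2, 3, 4, 5, 6, 7, 8, 9, 10, 11, 12, 13, 79, 0]⟩

end Cfsg.Lib.HeldType.Amalgam.Twist
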