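import Cfsg.Agent.Lib.HeldType.Amalgam.Twist.Cert

/-! Generated checks. -/

set_option autoImplicit false
set_option maxRecDepth 20000

namespace Cfsg.Lib.HeldType.Amalgam.Twist

open Cfsg.Lib.CosetEnum

theorem comm0_ok : loopOK comm0Cert = true := by decide +kernel

theorem comm1_ok : loopOK comm1Cert = true := by decide +kernel

theorem comm2_ok : loopOK comm2Cert = true := by decide +kernel

theorem comm3_ok : loopOK comm3Cert = true := by decide +kernel

theorem comm5_ok : loopOK comm5Cert = true := by decide +kernel

theorem zSq_ok : loopOK zSqCert = true := by decide +kernel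

theorem twist_ok : loopOK twistCert = true := by decide +kernel

theorem zInU_ok : loopOK zInUCert = true := by decide +kernel

end Cfsg.Lib.HeldType.Amalgam.Twist
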