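import Cfsg.Agent.Lib.CosetEnum.Defs

/-! Generated table data. -/

set_option autoImplicit false
set_option maxRecDepth 20000

namespace Cfsg.Lib.HeldType.Amalgam.Twist

open Cfsg.Lib.CosetEnum

/-- Table data. -/
def tabComm0F_0 : Tab :=
  (.leaf 0x5000001f0000000000580001800000000000380001840000000000100001640000000000480001400000000000400001230000000000380001020000000000300000e30000000000280000c20000000000200000a0000000000018000083000000000010000062000000000008000043000000000000000022)

end Cfsg.Lib.HeldType.Amalgam.Twist
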